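import Groth.Prelude.Def_Hyper

/-!
# Coverings of semi-representable objects
-/

set_option autoImplicit false
set_option linter.all false
set_option backward.isDefEq.respectTransparency false

universe u

open CategoryTheory CategoryTheory.Limits Opposite

namespace Groth.Agent.Hyper16

variable {C : Type u} [SmallCategory C] {J : GrothendieckTopology C}

/-- A sieve containing the components of a covering is covering. -/
theorem mem_of_srCovering {K L : FormalCoproduct.{u} C} {f : K ⟶ L} (hf : Hyper.IsSRCovering J f)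
    (j : L.I) (S : Sieve (L.obj j))
    (hS : ∀ (i : K.I) (e : f.f i = j), S (f.φ i ≫ eqToHom (congrArg L.obj e))) : S ∈ J (L.obj j) :=
  J.superset_covering (by
    rw [Sieve.generate_le_iff]
    rintro _ _ ⟨i, e⟩
    exact hS i e) (hf j)

theorem srCovering_comp {K L M : FormalCoproduct.{u} C} {f : K ⟶ L} {g : L ⟶ M}
    (hf : Hyper.IsSRCovering J f) (hg : Hyper.IsSRCovering J g) : Hyper.IsSRCovering J (f ≫ g) := by
  intro m
  refine J.transitive (hg m) _ fun W h hh => ?_
  obtain ⟨V, a, b, ⟨⟨j, hj⟩⟩, rfl⟩ := hh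
  rw [Sieve.pullback_comp]
  refine J.pullback_stable a (mem_of_srCovering hf j _ fun i e => ?_)
  subst e
  exact ⟨_, 𝟙 _, _, Presieve.ofArrows.mk (⟨i, hj⟩ : {i : K.I // (f ≫ g).f i = m}), by
    simp [FormalCoproduct.category_comp_φ, Category.assoc]⟩

theorem srCovering_of_isIso {K L : FormalCoproduct.{u} C} (f : K ⟶ L) [IsIso f] :
    Hyper.IsSRCovering J f := by
  intro j
  have h := (FormalCoproduct.hom_ext_iff _ _).1 (IsIso.inv_hom_id f)
  obtain ⟨hf, hφ⟩ := h
  have e : f.f ((inv f).f j) = j := congrFun hf j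
  refine J.superset_covering (fun W a _ => ?_) (J.top_mem _)
  refine ⟨_, a ≫ (inv f).φ j, _, Presieve.ofArrows.mk (⟨(inv f).f j, e⟩ : {i : K.I // f.f i = j}), ?_⟩
  have := hφ j
  simp only [FormalCoproduct.category_comp_φ, FormalCoproduct.category_id_φ] at this
  rw [Category.assoc, ← Category.assoc ((inv f).φ j), ← Category.assoc]
  simpa [Category.assoc] using congrArg (a ≫ ·) this

/-- Base change of coverings. -/
theorem srCovering_pullback [HasPullbacks C] {K L L' : FormalCoproduct.{u} C} (f : K ⟶ L) (g : L' ⟶ L)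
    (hf : Hyper.IsSRCovering J f) [HasPullback g f] : Hyper.IsSRCovering J (pullback.fst g f) := by
  let pb := fun i : Function.Pullback g.f f.f =>
    pullback.cone (g.φ i.1.1 ≫ eqToHom (congrArg L.obj i.2)) (f.φ i.1.2)
  have hpb := fun i : Function.Pullback g.f f.f =>
    pullback.isLimit (g.φ i.1.1 ≫ eqToHom (congrArg L.obj i.2)) (f.φ i.1.2)
  let c := FormalCoproduct.pullbackCone g f pb
  have hc : IsPullback c.fst c.snd g f := FormalCoproduct.isPullback g f pb hpb
  have hfst : Hyper.IsSRCovering J c.fst := by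
    intro j
    refine J.superset_covering ?_ (J.pullback_stable (g.φ j) (hf (g.f j)))
    intro W h hh
    obtain ⟨V, a, b, ⟨⟨i, hi⟩⟩, hab⟩ := hh
    let p : Function.Pullback g.f f.f := ⟨(j, i), hi.symm⟩
    refine ⟨_, pullback.lift h a ?_, _, Presieve.ofArrows.mk (⟨p, rfl⟩ : {x : c.pt.I // c.fst.f x = j}), ?_⟩
    · change h ≫ g.φ j ≫ eqToHom _ = a ≫ f.φ i
      have := congrArg (· ≫ eqToHom (congrArg L.obj hi.symm)) hab
      simp only [Category.assoc, eqToHom_trans, eqToHom_refl, Category.comp_id] at this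
      exact this.symm
    · simp only [eqToHom_refl, Category.comp_id]
      exact pullback.lift_fst _ _ _
  rw [← hc.isoPullback_inv_fst]
  exact srCovering_comp (srCovering_of_isIso _) hfst

end Groth.Agent.Hyper16
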